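-- Team project APQ (S4150), package [T13S] (helper6).
import Mathlib
import Cfsg.Agent.Lib.Helper69.APQ.Defs

set_option autoImplicit false

namespace Cfsg.Agent.Lib.Helper6.APQ

open Equiv

universe u

/-- The centralizer of an element of order `13` in the symmetric group on `13` points has
order `13`. -/
theorem t13s_cent {β : Type u} [Fintype β] [DecidableEq β] (σ : Perm β)
    (hβ : Fintype.card β = 13) (ho : orderOf σ = 13) :
    Nat.card (Subgroup.centralizer ({σ} : Set (Perm β))) = 13 := by
  have hp : (orderOf σ).Prime := by rw [ho]; norm_num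
  obtain ⟨n, hn⟩ := Equiv.Perm.cycleType_prime_order hp
  rw [ho] at hn
  have hs := Equiv.Perm.sum_cycleType_le σ
  rw [hn, hβ, Multiset.sum_replicate, smul_eq_mul] at hs
  have hn0 : n = 0 := by omega
  subst hn0
  rw [Equiv.Perm.nat_card_centralizer, hn, hβ]
  simp

/-- [T13S] -/
theorem pkgT13S : Cfsg.Agent.Lib.Helper69.APQ.PkgT13S.{u} := by
  intro β _ _ G hβ hG
  classical
  have hfact : Fact (Nat.Prime 13) := ⟨by norm_num⟩
  obtain ⟨P⟩ := (inferInstance : Nonempty (Sylow 13 G))
  obtain ⟨k, hk⟩ := P.2.exists_card_eq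
  have hidx := P.not_dvd_index
  have hmul := (P : Subgroup G).card_mul_index
  rw [hk, hG] at hmul
  have hk1 : k = 1 := by
    rcases k with _ | _ | k
    · exfalso
      apply hidx
      rw [pow_zero, one_mul] at hmul
      rw [hmul]
      norm_num
    · rfl
    · exfalso
      have h1 : 13 ^ 2 ∣ 13 ^ (k + 1 + 1) := Nat.pow_dvd_pow 13 (by omega)
      have h2 : 13 ^ 2 ∣ 8580 := by
        rw [← hmul]
        exact Dvd.dvd.mul_right h1 _
      norm_num at h2
  have hP13 : Nat.card (P : Subgroup G) = 13 := by rw [hk, hk1]; norm_num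
  have hnt : Nontrivial (P : Subgroup G) := by
    rw [← Finite.one_lt_card_iff_nontrivial, hP13]
    norm_num
  obtain ⟨q, hq⟩ := exists_ne (1 : (P : Subgroup G))
  have hoq : orderOf q = 13 := by
    have h1 : orderOf q ∣ 13 := by
      have h0 := orderOf_dvd_natCard q
      rw [hP13] at h0
      exact h0
    rcases (Nat.dvd_prime (by norm_num)).mp h1 with h | h
    · exact absurd (orderOf_eq_one_iff.mp h) hq
    · exact h
  have hoσ : orderOf (((q : G) : Perm β)) = 13 := by
    rw [Subgroup.orderOf_coe, Subgroup.orderOf_coe, hoq]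
  have hcyc : IsCyclic (P : Subgroup G) := isCyclic_of_prime_card hP13
  have haut : Nat.card (MulAut (P : Subgroup G)) = 12 := by
    rw [IsCyclic.card_mulAut, hP13, Nat.totient_prime (by norm_num)]
  have key := Subgroup.card_dvd_of_injective _
    (QuotientGroup.kerLift_injective (P : Subgroup G).normalizerMonoidHom)
  rw [Subgroup.normalizerMonoidHom_ker, ← Subgroup.index, ← Subgroup.relIndex, haut] at key
  have hle : (Subgroup.centralizer ((P : Subgroup G) : Set G)
      ⊓ Subgroup.normalizer ((P : Subgroup G) : Set G)).map G.subtype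
      ≤ Subgroup.centralizer ({((q : G) : Perm β)} : Set (Perm β)) := by
    rintro _ ⟨c, hc, rfl⟩
    rw [Subgroup.mem_centralizer_iff]
    intro h hh
    rw [Set.mem_singleton_iff] at hh
    subst hh
    have h1 := (Subgroup.mem_centralizer_iff.mp hc.1) (q : G) q.2
    exact congrArg Subtype.val h1
  have hCN := Subgroup.card_dvd_of_le hle
  rw [Subgroup.card_map_of_injective G.subtype_injective, t13s_cent _ hβ hoσ] at hCN
  have hN := Subgroup.relIndex_mul_relIndex (⊥ : Subgroup G)
    (Subgroup.centralizer ((P : Subgroup G) : Set G)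
      ⊓ Subgroup.normalizer ((P : Subgroup G) : Set G))
    (Subgroup.normalizer ((P : Subgroup G) : Set G)) bot_le inf_le_right
  rw [Subgroup.relIndex_bot_left, Subgroup.relIndex_bot_left, Subgroup.inf_relIndex_right] at hN
  have hSyl := card_sylow_modEq_one 13 G
  rw [Sylow.card_eq_index_normalizer P] at hSyl
  have hSyl' : (Subgroup.normalizer ((P : Subgroup G) : Set G)).index % 13 = 1 := hSyl
  have hNidx := (Subgroup.normalizer ((P : Subgroup G) : Set G)).card_mul_index
  rw [hG] at hNidx
  generalize (Subgroup.normalizer ((P : Subgroup G) : Set G)).index = i at hSyl' hNidx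
  generalize Nat.card (Subgroup.normalizer ((P : Subgroup G) : Set G)) = c at hN hNidx
  generalize Nat.card ↥(Subgroup.centralizer ((P : Subgroup G) : Set G)
      ⊓ Subgroup.normalizer ((P : Subgroup G) : Set G)) = a at hN hCN
  generalize (Subgroup.centralizer ((P : Subgroup G) : Set G)).relIndex
    (Subgroup.normalizer ((P : Subgroup G) : Set G)) = b at hN key
  have hb : b ∈ Nat.divisors 12 := Nat.mem_divisors.mpr ⟨key, by norm_num⟩
  have hd : Nat.divisors 12 = {1, 2, 3, 4, 6, 12} := by decide
  rw [hd] at hb
  simp only [Finset.mem_insert, Finset.mem_singleton] at hb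
  rcases (Nat.dvd_prime (by norm_num)).mp hCN with ha | ha <;>
    rcases hb with hb | hb | hb | hb | hb | hb <;>
    · subst ha
      subst hb
      have hc : c = _ := hN.symm
      subst hc
      omega

end Cfsg.Agent.Lib.Helper6.APQ
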